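import Mathlib

universe u
namespace Groth.Agent.Helper9.Exal

open Algebra KaehlerDifferential TensorProduct

section basic
variable {A B : Type u} [CommRing A] [CommRing B] [Algebra A B] (P : Algebra.Extension.{u} A B)

/-- the universal derivation `E → B ⊗_E Ω_{E/A}` -/
noncomputable def dd (e : P.Ring) : P.CotangentSpace := (1 : B) ⊗ₜ[P.Ring] D A P.Ring e

theorem dd_add (x y : P.Ring) : dd P (x + y) = dd P x + dd P y := by
  simp [dd, tmul_add]

theorem dd_sub (x y : P.Ring) : dd P (x - y) = dd P x - dd P y := by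
  simp [dd, tmul_sub]

theorem dd_zero : dd P 0 = 0 := by simp [dd]

theorem dd_one : dd P 1 = 0 := by simp [dd]

theorem dd_algebraMap (a : A) : dd P (algebraMap A P.Ring a) = 0 := by simp [dd]

theorem dd_mul (x y : P.Ring) :
    dd P (x * y) = algebraMap P.Ring B x • dd P y + algebraMap P.Ring B y • dd P x := by
  simp only [dd, Derivation.leibniz, tmul_add]
  congr 1
  · rw [← TensorProduct.smul_tmul, Algebra.smul_def, mul_one,
      TensorProduct.smul_tmul', smul_eq_mul, mul_one]
  · rw [← TensorProduct.smul_tmul, Algebra.smul_def, mul_one,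
      TensorProduct.smul_tmul', smul_eq_mul, mul_one]

theorem toKaehler_dd (e : P.Ring) : P.toKaehler (dd P e) = D A B (algebraMap P.Ring B e) := by
  simp [dd, Algebra.Extension.toKaehler]

theorem cotangentComplex_mk' (x : P.ker) : P.cotangentComplex (Algebra.Extension.Cotangent.mk x) = dd P x :=
  Algebra.Extension.cotangentComplex_mk P x

/-- uniqueness: an element killed by the projection and by `d` vanishes (when the conormal map is injective
and the kernel has square zero) -/
theorem eq_zero_of (hsq : P.ker ^ 2 = ⊥) (hinj : Function.Injective P.cotangentComplex)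
    (x : P.Ring) (h1 : algebraMap P.Ring B x = 0) (h2 : dd P x = 0) : x = 0 := by
  have hx : x ∈ P.ker := h1
  have : Algebra.Extension.Cotangent.mk ⟨x, hx⟩ = (0 : P.Cotangent) := by
    apply hinj
    rw [cotangentComplex_mk', map_zero]
    exact h2
  rw [Algebra.Extension.Cotangent.mk_eq_zero_iff, hsq] at this
  exact this

end basic

section main
variable {A B : Type u} [CommRing A] [CommRing B] [Algebra A B]
  (P P' : Algebra.Extension.{u} A B)
  (e₂ : P.CotangentSpace ≃ₗ[B] P'.CotangentSpace)
  (h₂ : ∀ y, P'.toKaehler (e₂ y) = P.toKaehler y)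

include h₂ in
theorem exists_lift (e : P.Ring) :
    ∃ e' : P'.Ring, algebraMap P'.Ring B e' = algebraMap P.Ring B e ∧ dd P' e' = e₂ (dd P e) := by
  obtain ⟨e0, he0⟩ := P'.algebraMap_surjective (algebraMap P.Ring B e)
  have hk : P'.toKaehler (e₂ (dd P e) - dd P' e0) = 0 := by
    rw [map_sub, h₂, toKaehler_dd, toKaehler_dd, he0, sub_self]
  obtain ⟨c, hc⟩ := (P'.exact_cotangentComplex_toKaehler _).1 hk
  obtain ⟨i, rfl⟩ := Algebra.Extension.Cotangent.mk_surjective c
  rw [cotangentComplex_mk'] at hc
  refine ⟨e0 + i, ?_, ?_⟩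
  · rw [map_add, he0]
    have : algebraMap P'.Ring B (i : P'.Ring) = 0 := i.2
    rw [this, add_zero]
  · rw [dd_add, hc]; abel

variable (hsq' : P'.ker ^ 2 = ⊥) (hinj' : Function.Injective P'.cotangentComplex)

include hsq' hinj' in
theorem lift_unique (x y : P'.Ring) (h1 : algebraMap P'.Ring B x = algebraMap P'.Ring B y)
    (h2 : dd P' x = dd P' y) : x = y := by
  rw [← sub_eq_zero]
  apply eq_zero_of P' hsq' hinj'
  · rw [map_sub, h1, sub_self]
  · rw [dd_sub, h2, sub_self]

/-- the lift as a function -/
noncomputable def liftFun (e : P.Ring) : P'.Ring := (exists_lift P P' e₂ h₂ e).choose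

theorem liftFun_spec1 (e : P.Ring) :
    algebraMap P'.Ring B (liftFun P P' e₂ h₂ e) = algebraMap P.Ring B e :=
  (exists_lift P P' e₂ h₂ e).choose_spec.1

theorem liftFun_spec2 (e : P.Ring) : dd P' (liftFun P P' e₂ h₂ e) = e₂ (dd P e) :=
  (exists_lift P P' e₂ h₂ e).choose_spec.2

/-- the lift as a ring hom -/
noncomputable def liftHom : P.Ring →+* P'.Ring where
  toFun := liftFun P P' e₂ h₂
  map_one' := by
    apply lift_unique P' hsq' hinj'
    · rw [liftFun_spec1, map_one, map_one]
    · rw [liftFun_spec2, dd_one, dd_one, map_zero]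
  map_mul' x y := by
    apply lift_unique P' hsq' hinj'
    · rw [liftFun_spec1, map_mul, map_mul, liftFun_spec1, liftFun_spec1]
    · rw [liftFun_spec2, dd_mul, dd_mul, liftFun_spec1, liftFun_spec1, liftFun_spec2,
        liftFun_spec2, map_add, map_smul, map_smul]
  map_zero' := by
    apply lift_unique P' hsq' hinj'
    · rw [liftFun_spec1, map_zero, map_zero]
    · rw [liftFun_spec2, dd_zero, dd_zero, map_zero]
  map_add' x y := by
    apply lift_unique P' hsq' hinj'
    · rw [liftFun_spec1, map_add, map_add, liftFun_spec1, liftFun_spec1]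
    · rw [liftFun_spec2, dd_add, dd_add, liftFun_spec2, liftFun_spec2, map_add]

theorem liftHom_apply (e : P.Ring) : liftHom P P' e₂ h₂ hsq' hinj' e = liftFun P P' e₂ h₂ e := rfl

/-- the lift as a hom of extensions -/
noncomputable def liftExt : P.Hom P' where
  toRingHom := liftHom P P' e₂ h₂ hsq' hinj'
  toRingHom_algebraMap a := by
    apply lift_unique P' hsq' hinj'
    · rw [liftHom_apply, liftFun_spec1, Algebra.algebraMap_self, RingHom.id_apply,
        ← IsScalarTower.algebraMap_apply, ← IsScalarTower.algebraMap_apply]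
    · rw [liftHom_apply, liftFun_spec2, dd_algebraMap, Algebra.algebraMap_self, RingHom.id_apply,
        dd_algebraMap, map_zero]
  algebraMap_toRingHom e := by
    rw [liftHom_apply, liftFun_spec1, Algebra.algebraMap_self, RingHom.id_apply]

theorem liftExt_apply (e : P.Ring) :
    (liftExt P P' e₂ h₂ hsq' hinj').toRingHom e = liftFun P P' e₂ h₂ e := rfl

variable (hsq : P.ker ^ 2 = ⊥) (hinj : Function.Injective P.cotangentComplex)

include hsq hinj in
theorem liftExt_injective : Function.Injective (liftExt P P' e₂ h₂ hsq' hinj').toRingHom := by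
  rw [injective_iff_map_eq_zero]
  intro x hx
  rw [liftExt_apply] at hx
  apply eq_zero_of P hsq hinj
  · rw [← liftFun_spec1 P P' e₂ h₂, hx, map_zero]
  · have := liftFun_spec2 P P' e₂ h₂ x
    rw [hx, dd_zero] at this
    exact e₂.map_eq_zero_iff.1 this.symm

omit hsq hinj in
theorem liftExt_surjective : Function.Surjective (liftExt P P' e₂ h₂ hsq' hinj').toRingHom := by
  have h₂' : ∀ y, P.toKaehler (e₂.symm y) = P'.toKaehler y := by
    intro y
    rw [← h₂, LinearEquiv.apply_symm_apply]
  intro y
  refine ⟨liftFun P' P e₂.symm h₂' y, ?_⟩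
  rw [liftExt_apply]
  apply lift_unique P' hsq' hinj'
  · rw [liftFun_spec1, liftFun_spec1]
  · rw [liftFun_spec2, liftFun_spec2, LinearEquiv.apply_symm_apply]

variable (e₁ : P.Cotangent ≃ₗ[B] P'.Cotangent)
  (h₁ : ∀ x, e₂ (P.cotangentComplex x) = P'.cotangentComplex (e₁ x))

include h₁ in
theorem cotangent_map_liftExt :
    Algebra.Extension.Cotangent.map (liftExt P P' e₂ h₂ hsq' hinj') = e₁.toLinearMap := by
  refine LinearMap.ext fun x => ?_
  obtain ⟨x, rfl⟩ := Algebra.Extension.Cotangent.mk_surjective x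
  apply hinj'
  rw [Algebra.Extension.Cotangent.map_mk, cotangentComplex_mk', LinearEquiv.coe_coe, ← h₁,
    cotangentComplex_mk']
  change dd P' ((liftExt P P' e₂ h₂ hsq' hinj').toRingHom x) = _
  rw [liftExt_apply, liftFun_spec2]

end main

end Groth.Agent.Helper9.Exal
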